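import Mathlib

universe u
open scoped TensorProduct

namespace Groth.Agent.LieNilFib

attribute [local instance 100] LieRing.ofAssociativeRing

variable {A : Type u} [CommRing A]

/-- An element dying in the fibre at `p` is, up to an element outside `p`, divisible by `p`. -/
theorem exists_smul_mem {M : Type u} [AddCommGroup M] [Module A M] (p : Ideal A) [p.IsPrime] (c : M)
    (h : (1 : p.ResidueField) ⊗ₜ[A] c = 0) :
    ∃ s, s ∉ p ∧ s • c ∈ (p • ⊤ : Submodule A M) := by
  let e := TensorProduct.AlgebraTensorModule.cancelBaseChange A (A ⧸ p) p.ResidueField p.ResidueField M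
  have h1 : (1 : p.ResidueField) ⊗ₜ[A ⧸ p] ((1 : A ⧸ p) ⊗ₜ[A] c) = 0 := e.injective (by
    rw [map_zero, TensorProduct.AlgebraTensorModule.cancelBaseChange_tmul, one_smul, h])
  haveI : IsLocalization (nonZeroDivisors (A ⧸ p)) p.ResidueField :=
    inferInstanceAs (IsFractionRing (A ⧸ p) p.ResidueField)
  obtain ⟨⟨s, hs⟩, hsc⟩ := (IsLocalizedModule.eq_zero_iff (nonZeroDivisors (A ⧸ p))
    (TensorProduct.mk (A ⧸ p) p.ResidueField ((A ⧸ p) ⊗[A] M) 1)).mp h1
  obtain ⟨s, rfl⟩ := Ideal.Quotient.mk_surjective s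
  refine ⟨s, fun hsp => nonZeroDivisors.ne_zero hs (Ideal.Quotient.eq_zero_iff_mem.mpr hsp), ?_⟩
  have h2 : Ideal.Quotient.mk p s • ((1 : A ⧸ p) ⊗ₜ[A] c) = 0 := hsc
  rw [TensorProduct.smul_tmul', smul_eq_mul, mul_one] at h2
  have h3 := congrArg (TensorProduct.quotTensorEquivQuotSMul M p) h2
  rw [map_zero, TensorProduct.quotTensorEquivQuotSMul_mk_tmul] at h3
  exact (Submodule.Quotient.mk_eq_zero _).mp h3

variable {L : Type u} [LieRing L] [LieAlgebra A L]

/-- The lower central series as submodules. -/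
def C (k : ℕ) : Submodule A L := (LieModule.lowerCentralSeries A L L k).toSubmodule

theorem C_zero : (C 0 : Submodule A L) = ⊤ := by simp [C]

theorem C_succ (k : ℕ) : (C (k + 1) : Submodule A L) =
    Submodule.map₂ (LieModule.toEnd A L L).toLinearMap ⊤ (C k) := by
  rw [C, LieModule.lowerCentralSeries_succ, LieSubmodule.lieIdeal_oper_eq_linear_span',
    Submodule.map₂_eq_span_image2]
  congr 1

theorem C_fg [Module.Finite A L] : ∀ k, (C k : Submodule A L).FG
  | 0 => by rw [C_zero]; exact Module.Finite.fg_top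
  | k + 1 => by rw [C_succ]; exact Submodule.FG.map₂ _ Module.Finite.fg_top (C_fg k)

theorem shift {J : Ideal A} {j : ℕ} (h : C j ≤ (J • ⊤ : Submodule A L)) :
    ∀ k, C (j + k) ≤ (J • C k : Submodule A L)
  | 0 => by rw [C_zero]; simpa using h
  | k + 1 => by
    rw [← Nat.add_assoc, C_succ, Submodule.map₂_le]
    intro x _ m hm
    refine Submodule.smul_induction_on (shift h k hm) (fun a ha n hn => ?_) (fun a b ha hb => ?_)
    · rw [map_smul]
      refine Submodule.smul_mem_smul ha ?_
      rw [C_succ]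
      exact Submodule.apply_mem_map₂ _ Submodule.mem_top hn
    · rw [map_add]; exact add_mem ha hb

theorem mem_lcs_fibre (p : Ideal A) [p.IsPrime] : ∀ (k : ℕ) (c : L), c ∈ (C k : Submodule A L) →
    (1 : p.ResidueField) ⊗ₜ[A] c ∈
      LieModule.lowerCentralSeries p.ResidueField (p.ResidueField ⊗[A] L) (p.ResidueField ⊗[A] L) k := by
  intro k
  induction k with
  | zero => intro c _; simp
  | succ k ih =>
    intro c hc
    rw [C_succ, Submodule.map₂_eq_span_image2] at hc
    induction hc using Submodule.span_induction with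
    | mem z hz =>
      obtain ⟨x, -, m, hm, rfl⟩ := hz
      rw [LieModule.lowerCentralSeries_succ]
      have := LieSubmodule.lie_mem_lie (I := (⊤ : LieIdeal p.ResidueField (p.ResidueField ⊗[A] L)))
        (x := (1 : p.ResidueField) ⊗ₜ[A] x) (LieSubmodule.mem_top _) (ih m hm)
      rwa [LieAlgebra.ExtendScalars.bracket_tmul, one_mul] at this
    | zero => rw [TensorProduct.tmul_zero]; exact zero_mem _
    | add a b _ _ ha hb => rw [TensorProduct.tmul_add]; exact add_mem ha hb
    | smul r a _ ha =>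
      rw [TensorProduct.tmul_smul, ← algebraMap_smul p.ResidueField r]
      exact SMulMemClass.smul_mem _ ha

/-- Nilpotency is detected on fibres, for Lie algebras which are finite modules. -/
theorem isNilpotent_of_fibres [Module.Finite A L]
    (h : ∀ (p : Ideal A) [p.IsPrime], LieRing.IsNilpotent (p.ResidueField ⊗[A] L)) :
    LieRing.IsNilpotent L := by
  show LieModule.IsNilpotent L L
  rw [LieModule.isNilpotent_iff A L L]
  by_contra hne
  push Not at hne
  let S : Set (Ideal A) := {I | ∀ j, ¬ C j ≤ (I • ⊤ : Submodule A L)}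
  have hbot : (⊥ : Ideal A) ∈ S := by
    intro j hj
    rw [Submodule.bot_smul, le_bot_iff] at hj
    exact hne j ((LieSubmodule.toSubmodule_eq_bot _).mp hj)
  obtain ⟨I, -, hImax⟩ := zorn_le_nonempty₀ S (fun c hcS hchain y hy => by
    refine ⟨sSup c, fun j hj => ?_, fun z hz => le_sSup hz⟩
    have hne' : c.Nonempty := ⟨y, hy⟩
    haveI : Nonempty c := hne'.to_subtype
    have hdir : Directed (· ≤ ·) fun K : c => ((K : Ideal A) • ⊤ : Submodule A L) := by
      intro a b
      rcases hchain.total a.2 b.2 with hab | hab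
      · exact ⟨b, Submodule.smul_mono_left hab, le_rfl⟩
      · exact ⟨a, le_rfl, Submodule.smul_mono_left hab⟩
    have hle : C j ≤ ⨆ K : c, ((K : Ideal A) • ⊤ : Submodule A L) := by
      refine hj.trans ?_
      rw [sSup_eq_iSup', Submodule.iSup_smul]
    obtain ⟨t, ht⟩ := CompleteLattice.IsCompactElement.exists_finset_of_le_iSup _
      ((Submodule.fg_iff_compact _).mp (C_fg j)) _ hle
    obtain ⟨K, hK⟩ := hdir.finset_le t
    exact hcS K.2 j (ht.trans (iSup₂_le hK))) ⊥ hbot
  have hI : I ∈ S := hImax.prop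
  have hbig : ∀ a, a ∉ I → ∃ j, C j ≤ ((I ⊔ Ideal.span {a}) • ⊤ : Submodule A L) := by
    intro a ha
    by_contra hno
    push Not at hno
    exact ha ((hImax.le_of_ge (show I ⊔ Ideal.span {a} ∈ S from hno) le_sup_left)
      (Ideal.mem_sup_right (Ideal.mem_span_singleton_self a)))
  haveI hIp : I.IsPrime := by
    refine ⟨fun htop => hI 0 ?_, fun {a b} hab => ?_⟩
    · rw [htop, Submodule.top_smul]; exact le_top
    · by_contra hno
      push Not at hno
      obtain ⟨j, hj⟩ := hbig a hno.1
      obtain ⟨k, hk⟩ := hbig b hno.2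
      refine hI (j + k) ((shift hj k).trans ?_)
      refine (Submodule.smul_mono le_rfl hk).trans ?_
      rw [← Submodule.mul_smul]
      refine Submodule.smul_mono_left ?_
      rw [Ideal.sup_mul, Ideal.mul_sup, Ideal.mul_sup, Ideal.span_singleton_mul_span_singleton]
      refine sup_le (sup_le ?_ ?_) (sup_le ?_ ?_)
      all_goals first
        | exact Ideal.mul_le_left
        | exact Ideal.mul_le_right
        | exact (Ideal.span_singleton_le_iff_mem _).mpr hab
  obtain ⟨g, hg⟩ := (LieModule.isNilpotent_iff I.ResidueField (I.ResidueField ⊗[A] L)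
    (I.ResidueField ⊗[A] L)).mp (h I)
  have hloc : ∀ c ∈ (C g : Submodule A L), ∃ s, s ∉ I ∧ s • c ∈ (I • ⊤ : Submodule A L) := by
    intro c hc
    refine exists_smul_mem I c ?_
    have := mem_lcs_fibre I g c hc
    rwa [hg, LieSubmodule.mem_bot] at this
  obtain ⟨t, ht⟩ := C_fg (A := A) (L := L) g
  choose σ hσI hσ using hloc
  classical
  let s := ∏ c ∈ t.attach, σ c.1 (ht ▸ Submodule.subset_span c.2)
  have hsI : s ∉ I := by
    intro hs
    obtain ⟨c, -, hc⟩ := hIp.prod_mem_iff.mp hs
    exact hσI _ _ hc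
  have hsC : ∀ x ∈ (C g : Submodule A L), s • x ∈ (I • ⊤ : Submodule A L) := by
    intro x hx
    rw [← ht] at hx
    induction hx using Submodule.span_induction with
    | mem c hc =>
      obtain ⟨d, hd⟩ := Finset.dvd_prod_of_mem
        (fun c : {x // x ∈ t} => σ c.1 (ht ▸ Submodule.subset_span c.2))
        (Finset.mem_attach t ⟨c, hc⟩)
      show (∏ c ∈ t.attach, σ c.1 (ht ▸ Submodule.subset_span c.2)) • c ∈ _
      rw [hd, mul_comm, mul_smul]
      exact Submodule.smul_mem _ _ (hσ c _)
    | zero => rw [smul_zero]; exact zero_mem _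
    | add a b _ _ ha hb => rw [smul_add]; exact add_mem ha hb
    | smul r a _ ha => rw [smul_comm]; exact Submodule.smul_mem _ _ ha
  obtain ⟨j, hj⟩ := hbig s hsI
  refine hI (j + g) ((shift hj g).trans ?_)
  rw [Submodule.sup_smul]
  refine sup_le (Submodule.smul_mono le_rfl le_top) ?_
  rw [Submodule.smul_le]
  intro r hr n hn
  obtain ⟨r', rfl⟩ := Ideal.mem_span_singleton'.mp hr
  rw [mul_smul]
  exact Submodule.smul_mem _ _ (hsC n hn)

theorem isNilpotent_of_ad [Module.Finite A L] (h : ∀ x : L, IsNilpotent (LieAlgebra.ad A L x)) :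
    LieRing.IsNilpotent L := by
  refine isNilpotent_of_fibres (A := A) fun p _ => ?_
  rw [LieAlgebra.isNilpotent_iff_forall (R := p.ResidueField)]
  intro z
  have hz : ∃ s : A, s ∉ p ∧ ∃ x : L, s • z = (1 : p.ResidueField) ⊗ₜ[A] x := by
    induction z using TensorProduct.induction_on with
    | zero => exact ⟨1, p.ne_top_iff_one.mp (Ideal.IsPrime.ne_top ‹_›), 0, by simp⟩
    | tmul r x =>
      obtain ⟨a, b, hb, rfl⟩ := IsFractionRing.div_surjective (A ⧸ p) r
      obtain ⟨a, rfl⟩ := Ideal.Quotient.mk_surjective a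
      obtain ⟨b, rfl⟩ := Ideal.Quotient.mk_surjective b
      have hbne : algebraMap (A ⧸ p) p.ResidueField (Ideal.Quotient.mk p b) ≠ 0 := fun h0 =>
        nonZeroDivisors.ne_zero hb (IsFractionRing.injective (A ⧸ p) p.ResidueField (by rw [h0, map_zero]))
      refine ⟨b, fun hbp => nonZeroDivisors.ne_zero hb (Ideal.Quotient.eq_zero_iff_mem.mpr hbp), a • x, ?_⟩
      rw [TensorProduct.smul_tmul', ← TensorProduct.smul_tmul]
      congr 1
      rw [Algebra.smul_def, Algebra.smul_def, mul_one, IsScalarTower.algebraMap_apply A (A ⧸ p) p.ResidueField,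
        IsScalarTower.algebraMap_apply A (A ⧸ p) p.ResidueField]
      show algebraMap (A ⧸ p) _ (Ideal.Quotient.mk p b) * _ = _
      rw [mul_div_cancel₀ _ hbne]
      rfl
    | add u v hu hv =>
      obtain ⟨s, hs, x, hx⟩ := hu
      obtain ⟨t, ht, y, hy⟩ := hv
      refine ⟨s * t, fun hh => (Ideal.IsPrime.mem_or_mem ‹_› hh).elim hs ht, t • x + s • y, ?_⟩
      rw [smul_add, TensorProduct.tmul_add, TensorProduct.tmul_smul, TensorProduct.tmul_smul, ← hx, ← hy,
        smul_smul, smul_smul, mul_comm t s]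
  obtain ⟨s, hs, x, hx⟩ := hz
  have hne : algebraMap A p.ResidueField s ≠ 0 := fun h0 => hs (Ideal.algebraMap_residueField_eq_zero.mp h0)
  have hz' : z = (algebraMap A p.ResidueField s)⁻¹ • ((1 : p.ResidueField) ⊗ₜ[A] x) := by
    rw [← hx, ← algebraMap_smul p.ResidueField s z, smul_smul, inv_mul_cancel₀ hne, one_smul]
  rw [hz', map_smul]
  refine IsNilpotent.smul ?_ _
  have e : LieAlgebra.ad p.ResidueField (p.ResidueField ⊗[A] L) ((1 : p.ResidueField) ⊗ₜ[A] x) =
      Module.End.baseChangeHom A p.ResidueField L (LieAlgebra.ad A L x) := by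
    refine TensorProduct.AlgebraTensorModule.ext fun r y => ?_
    simp [Module.End.baseChangeHom]
    all_goals rfl
  rw [e]
  exact (h x).map _

end Groth.Agent.LieNilFib
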